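import Cfsg.Agent.Cit.Nil.FinBridge

/-!
# S3108: the core-free world (C3) of S1309 with `r = 1` is contradictory
-/

set_option autoImplicit false

namespace Cfsg.Agent.H976.TightQ

open Subgroup Cfsg Cfsg.Agent.Cit Cfsg.Agent.Cit.Nil

universe u

/-- in the core-free world (C3) there are at least two members over each involution -/
theorem r1_false (ind : FinBridge.IndStmt.{u}) {G : Type u} [Group G] [Finite G] {K : Subgroup G}
    (w : AssemblyNil.W3 G K) (hf : ∀ t : G, orderOf t = 2 → centralizerPPrimeCore 2 t = ⊥)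
    (e1 : (AssemblyNil.ovr K).ncard = 1) : False := by
  have hm := FinBridge.mone_of_ind ind w hf
  have W := ROne.World.of_w3 w e1 hf
  obtain ⟨S, z, hz, u, hu, hne, hzS, huS⟩ := W.two
  have hinj : ∀ L ∈ cls K, ∀ M ∈ cls K, zz L = zz M → L = M := by
    have hyp := w.hyp
    obtain ⟨L0, hL0⟩ := Set.ncard_eq_one.1 e1
    have h2 : ∀ M ∈ cls K, zz M = zz K → M = K := by
      intro M hM hMz
      have h3 : M ∈ AssemblyNil.ovr K := ⟨hM, hMz⟩
      have h4 : K ∈ AssemblyNil.ovr K := ⟨self_mem_cls K, rfl⟩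
      rw [hL0, Set.mem_singleton_iff] at h3 h4
      rw [h3, h4]
    rintro L ⟨g, rfl⟩ M hM hz
    have h3 := h2 (cj g⁻¹ M) (hyp.conj M hM _) (by
      rw [hyp.zz_cj hM, ← hz, hyp.zz_cj (self_mem_cls K)]
      group)
    rw [← h3, cj_cj_inv]
  have hcom := W.w.com hz hu S.isPGroup' hzS huS hne
  obtain ⟨A, hA, rfl⟩ := hz
  obtain ⟨B, hB, rfl⟩ := hu
  have h5 := hcom.2
  rw [ROne.Kf_zz hinj hA, ROne.Kf_zz hinj hB] at h5
  exact hne (hm A hA B hB h5)

end Cfsg.Agent.H976.TightQ
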