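import Cfsg.Agent.H976.TightQ.Red
import Cfsg.Agent.H976.TightQ.ROneF
import Cfsg.Agent.Cit.Nil.FinalNil

/-!
# S3108: tightly embedded subgroups with quaternion Sylow 2-subgroups

`nil_normal` : S1309 for a 2-nilpotent `J` which is the only member of its class over its involution: `PSp₆(2)` and
`PΩ₈⁺(2)` do not occur; `main` : the statement of S3108 from the inputs of S1309.
-/

set_option autoImplicit false
set_option linter.style.haveILetI false

namespace Cfsg.Agent.H976.TightQ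

open Subgroup Cfsg Cfsg.Agent.Cit Cfsg.Agent.Cit.Nil Cfsg.Agent.Cit.Nil.FinalNil
open Cfsg.Agent.Cit.AssemblyNil hiding Ext

universe u

/-- the conclusion of S3108 -/
def Cnc (X : Type*) [Group X] : Prop :=
  (∃ p : ℕ, p.Prime ∧ p ≠ 2 ∧ Cfsg.IsLieTypeChar p X) ∨ Cfsg.Spor.IsoM11 X ∨ Cfsg.Spor.IsoM12 X

theorem nil_normal (e : FinalNil.Ext.{u}) (o : Open.{u}) {G : Type u} [Group G] [Finite G] (fs : FS G)
    {J : Subgroup G} (hyp : Hyp (cls J)) (hn : NilK J) (hncl : ¬ Cl G) (hov : (ovr J).ncard = 1) :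
    Cnc ↥(generalizedFittingSubgroup G) := by
  have hs := fs.simple
  have hna := fs.na
  have E := ext e hs hna
  by_cases h1 : Cit.One (cls J)
  · have h0483 : Ident.St0483 ↥(generalizedFittingSubgroup G) := by
      intro S n hn2 hS
      haveI : Group.IsPerfect ↥(generalizedFittingSubgroup G) := ⟨End.commutator_eq_top hs hna⟩
      exact e.gw _ S n hn2 hS
    exact End.main hs hna fs.even E.p1173 E.p1171 E.p0506 h0483 E.p0507 E.p0523 E.p1742 h1 ⟨J, self_mem_cls J⟩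
      (nil_cls hn)
  by_cases hb : Free G
  · exfalso
    by_cases h3 : C3 J
    · exact r1_false (indStmt e o) ⟨fs, hyp, hn, h3, hncl, h1⟩ hb hov
    · obtain ⟨U, hU⟩ := exists_vchoice hyp (self_mem_cls J) hn h3
      exact h1 (o.cvFree G fs hb J U hyp hn hU hncl)
  unfold Free at hb
  push Not at hb
  obtain ⟨t, ht, ht2⟩ := hb
  rcases st1311 e fs t ht ht2 with h3 | h3
  · exact Or.inl h3
  · exact (o.unbal G fs J hyp hn h1 h3).elim

/-- **S3108** -/
theorem main (e : FinalNil.Ext.{u}) (o : Open.{u}) {G : Type u} [Group G] [Finite G]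
    (hs : IsSimpleGroup ↥(generalizedFittingSubgroup G))
    (hna : ¬ IsMulCommutative ↥(generalizedFittingSubgroup G)) (H : Subgroup G) (hH : IsTightlyEmbedded H)
    (hQ : ∀ S : Sylow 2 ↥H, ∃ n : ℕ, Nonempty (↥(S : Subgroup ↥H) ≃* QuaternionGroup (2 ^ (n + 1)))) :
    Cnc ↥(generalizedFittingSubgroup G) := by
  obtain ⟨z, J, hz, hJz, hzJ, hQJ, huniq, hN⟩ := red H hH hQ
  have hsn : (J.subgroupOf (centralizer ({z} : Set G))).IsSubnormal :=
    ((normal_subgroupOf_iff_le_normalizer hJz).2 hN).isSubnormal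
  have h2 : ∀ u ∈ centralizer ({z} : Set G), J.map (MulAut.conj u).toMonoidHom = J ∨
      ⁅J, J.map (MulAut.conj u).toMonoidHom⁆ ≤ (oddCore ↥J).map J.subtype ⊓
        (oddCore ↥(J.map (MulAut.conj u).toMonoidHom)).map (J.map (MulAut.conj u).toMonoidHom).subtype :=
    fun u hu => Or.inl (mem_normalizer_iff_cj.1 (hN hu))
  have h3 : ∀ y ∈ J, ∀ g : G, IsPGroup 2 ↥(zpowers y) → 4 ≤ orderOf y →
      g * y * g⁻¹ ∈ centralizer ({z} : Set G) → g * y * g⁻¹ ∈ normalizer (J : Set G) :=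
    fun y _ g _ _ h => hN h
  by_cases hcl : Cl G
  · rcases p1310 e hs hna hcl with h | h
    · exact Or.inl h
    · exact Or.inr (Or.inl h)
  obtain ⟨hyp, hzz⟩ := hyp_of_class z hz J hzJ hsn hQJ huniq h2 h3
  have hov : (ovr J).ncard = 1 := by
    rw [Set.ncard_eq_one]
    refine ⟨J, ?_⟩
    ext L
    rw [Set.mem_singleton_iff]
    constructor
    · rintro ⟨⟨g, rfl⟩, hL⟩
      rw [hyp.zz_cj (self_mem_cls J), hzz] at hL
      refine mem_normalizer_iff_cj.1 (hN ?_)
      rw [mem_centralizer_singleton_iff, ← mul_inv_eq_iff_eq_mul]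
      exact hL
    · rintro rfl
      exact ⟨self_mem_cls _, rfl⟩
  rcases Dich.dich e.gw hz hzJ hQJ huniq with hn | ⟨M, hMJ, hMn, hzM, hty⟩
  · exact nil_normal e o ⟨hs, hna, even e hs hna⟩ hyp hn hcl hov
  · refine absurd ⟨z, M, hz, hMJ.trans hJz, hzM, ?_, hty⟩ hcl
    refine Subgroup.IsSubnormal.step _ _ (fun x hx => hMJ hx) hsn ?_
    refine ⟨fun x hx g => ?_⟩
    have h4 : (x : G) ∈ M := hx
    have hxJ : (x : G) ∈ J := hMJ h4
    have h5 := hMn.conj_mem (⟨_, hxJ⟩ : J) h4 (⟨_, g.2⟩ : J)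
    exact h5

end Cfsg.Agent.H976.TightQ
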